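import Mathlib

/-!
# Bases inside a generating submodule over a semi-local algebra
-/

universe u

namespace Groth.Agent.SemilocBasis

variable {B A M : Type u} [CommRing B] [CommRing A]
  [IsLocalRing B] [Infinite (IsLocalRing.ResidueField B)] [Algebra B A]

theorem exists_avoid {N : Type u} [AddCommGroup N] [Module B N] {κ : Type*} (s : Finset κ) (P : κ → Submodule B N)
    (hP : ∀ i ∈ s, P i ≠ ⊤) (hm : ∀ i ∈ s, ∀ b ∈ IsLocalRing.maximalIdeal B, ∀ x, b • x ∈ P i) :
    ∃ x, ∀ i ∈ s, x ∉ P i := by
  classical
  induction s using Finset.induction_on with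
  | empty => exact ⟨0, by simp⟩
  | @insert i s _ ih =>
    obtain ⟨x, hx⟩ := ih (fun j hj => hP j (Finset.mem_insert_of_mem hj)) (fun j hj => hm j (Finset.mem_insert_of_mem hj))
    obtain ⟨y, -, hy⟩ := SetLike.exists_of_lt (hP i (Finset.mem_insert_self i s)).lt_top
    have huniq : ∀ j ∈ insert i s, ∀ b b' : B, x + b • y ∈ P j → x + b' • y ∈ P j →
        IsLocalRing.residue B b = IsLocalRing.residue B b' := by
      intro j hj b b' hb hb'
      by_contra hne
      have hu : IsUnit (b - b') := by
        by_contra hu
        exact hne (Ideal.Quotient.eq.2 ((IsLocalRing.mem_maximalIdeal _).2 hu))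
      have hyj : y ∈ P j := by
        have := (P j).smul_mem (↑hu.unit⁻¹ : B) ((P j).sub_mem hb hb')
        rwa [add_sub_add_left_eq_sub, ← sub_smul, smul_smul, hu.val_inv_mul, one_smul] at this
      rcases Finset.mem_insert.1 hj with rfl | hj'
      · exact hy hyj
      · exact hx j hj' (by simpa using (P j).sub_mem hb ((P j).smul_mem b hyj))
    let bad : Finset (IsLocalRing.ResidueField B) := (insert i s).biUnion fun j =>
      if h : ∃ b, x + b • y ∈ P j then {IsLocalRing.residue B h.choose} else ∅
    obtain ⟨c, hc⟩ := Infinite.exists_notMem_finset bad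
    obtain ⟨b, rfl⟩ := IsLocalRing.residue_surjective c
    refine ⟨x + b • y, fun j hj hb => hc (Finset.mem_biUnion.2 ⟨j, hj, ?_⟩)⟩
    have h : ∃ b, x + b • y ∈ P j := ⟨b, hb⟩
    rw [dif_pos h, Finset.mem_singleton]
    exact huniq j hj _ _ hb h.choose_spec

variable [Finite (MaximalSpectrum A)] [AddCommGroup M] [Module A M] [Module B M] [IsScalarTower B A M]
  [Module.Free A M] [Module.Finite A M]

theorem exists_basis (hBA : (IsLocalRing.maximalIdeal B).map (algebraMap B A) ≤ (⊥ : Ideal A).jacobson)
    (N : Submodule B M) (hN : Submodule.span A (N : Set M) = ⊤) :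
    ∃ b : Module.Basis (Fin (Module.finrank A M)) A M, ∀ i, b i ∈ N := by
  classical
  rcases subsingleton_or_nontrivial A with hA | hA
  · haveI : Subsingleton M := Module.subsingleton A M
    let b₀ : Module.Basis (Fin (Module.finrank A M)) A M := Module.Basis.ofRepr
      { toFun := fun _ => 0
        invFun := fun _ => 0
        map_add' := fun _ _ => Subsingleton.elim _ _
        map_smul' := fun _ _ => Subsingleton.elim _ _
        left_inv := fun _ => Subsingleton.elim _ _
        right_inv := fun _ => Subsingleton.elim _ _ }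
    exact ⟨b₀, fun i => by rw [Subsingleton.elim (b₀ i) 0]; exact N.zero_mem⟩
  let r := Module.finrank A M
  let e : M ≃ₗ[A] (Fin r → A) := (Module.finBasis A M).equivFun
  let φ : ∀ m : MaximalSpectrum A, M → (Fin r → A ⧸ m.asIdeal) := fun m x i => Ideal.Quotient.mk _ (e x i)
  have φadd : ∀ m x y, φ m (x + y) = φ m x + φ m y := fun m x y => funext fun i => by simp [φ]
  have φsmul : ∀ m (a : A) x, φ m (a • x) = Ideal.Quotient.mk m.asIdeal a • φ m x := fun m a x =>
    funext fun i => by simp [φ]
  haveI : ∀ m : MaximalSpectrum A, m.asIdeal.IsMaximal := fun m => m.isMaximal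
  letI : ∀ m : MaximalSpectrum A, Field (A ⧸ m.asIdeal) := fun m => Ideal.Quotient.field _
  have step : ∀ j, j ≤ r → ∃ v : Fin j → M, (∀ i, v i ∈ N) ∧
      ∀ m, LinearIndependent (A ⧸ m.asIdeal) (fun i => φ m (v i)) := by
    intro j
    induction j with
    | zero => exact fun _ => ⟨Fin.elim0, fun i => i.elim0, fun m => linearIndependent_empty_type⟩
    | succ j ih =>
      intro hj
      obtain ⟨v, hv, hli⟩ := ih (by omega)
      let P : MaximalSpectrum A → Submodule B N := fun m =>
        { carrier := {x | φ m (x : M) ∈ Submodule.span (A ⧸ m.asIdeal) (Set.range fun i => φ m (v i))}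
          add_mem' := fun {x y} hx hy => by
            show φ m ((x : M) + (y : M)) ∈ Submodule.span (A ⧸ m.asIdeal) (Set.range fun i => φ m (v i))
            rw [φadd]
            exact Submodule.add_mem _ hx hy
          zero_mem' := by
            show φ m (0 : M) ∈ Submodule.span (A ⧸ m.asIdeal) (Set.range fun i => φ m (v i))
            rw [show φ m (0 : M) = 0 from funext fun i => by simp [φ]]
            exact Submodule.zero_mem _
          smul_mem' := fun b x hx => by
            show φ m (b • (x : M)) ∈ Submodule.span (A ⧸ m.asIdeal) (Set.range fun i => φ m (v i))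
            rw [← algebraMap_smul A b (x : M), φsmul]
            exact Submodule.smul_mem _ _ hx }
      cases nonempty_fintype (MaximalSpectrum A)
      obtain ⟨x, hx⟩ := exists_avoid Finset.univ P (fun m _ htop => by
        have hsub : ∀ y : M, φ m y ∈ Submodule.span (A ⧸ m.asIdeal) (Set.range fun i => φ m (v i)) := by
          intro y
          have hy : y ∈ Submodule.span A (N : Set M) := by rw [hN]; trivial
          induction hy using Submodule.span_induction with
          | mem y hy => exact (htop.symm ▸ Submodule.mem_top : (⟨y, hy⟩ : N) ∈ P m)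
          | zero => rw [show φ m (0 : M) = 0 from funext fun i => by simp [φ]]; exact Submodule.zero_mem _
          | add y z _ _ hy hz => rw [φadd]; exact Submodule.add_mem _ hy hz
          | smul a y _ hy => rw [φsmul]; exact Submodule.smul_mem _ _ hy
        have htop' : Submodule.span (A ⧸ m.asIdeal) (Set.range fun i => φ m (v i)) = ⊤ := by
          rw [Submodule.eq_top_iff']
          intro w
          obtain ⟨a, ha⟩ : ∃ a : Fin r → A, ∀ i, Ideal.Quotient.mk m.asIdeal (a i) = w i :=
            Classical.axiom_of_choice fun i => Ideal.Quotient.mk_surjective (w i)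
          have : φ m (e.symm a) = w := funext fun i => by simp [φ, ha]
          exact this ▸ hsub _
        have := finrank_span_eq_card (hli m)
        rw [htop', finrank_top, Module.finrank_fin_fun, Fintype.card_fin] at this
        omega) (fun m _ b hb y => by
        show φ m (b • (y : M)) ∈ Submodule.span (A ⧸ m.asIdeal) (Set.range fun i => φ m (v i))
        rw [← algebraMap_smul A b (y : M), φsmul,
          Ideal.Quotient.eq_zero_iff_mem.2 (by
            have := hBA (Ideal.mem_map_of_mem _ hb)
            rw [Ideal.jacobson, Ideal.mem_sInf] at this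
            exact this ⟨bot_le, m.isMaximal⟩), zero_smul]
        exact Submodule.zero_mem _)
      refine ⟨Fin.snoc v x, fun i => ?_, fun m => ?_⟩
      · refine Fin.lastCases ?_ (fun i => ?_) i
        · simp
        · simpa using hv i
      · rw [show (fun i => φ m ((Fin.snoc v (x : M) : Fin (j + 1) → M) i)) =
          Fin.snoc (fun i => φ m (v i)) (φ m x) from by
            funext i
            refine Fin.lastCases ?_ (fun i => ?_) i <;> simp]
        exact linearIndependent_finSnoc.2 ⟨hli m, hx m (Finset.mem_univ m)⟩
  obtain ⟨v, hv, hli⟩ := step r le_rfl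
  have hdet : IsUnit ((Module.finBasis A M).det v) := by
    by_contra hu
    obtain ⟨m, hm, hmem⟩ := exists_max_ideal_of_mem_nonunits hu
    let mm : MaximalSpectrum A := ⟨m, hm⟩
    have hmat : IsUnit (Matrix.of fun i k : Fin r => φ mm (v k) i).det := by
      rw [← Matrix.isUnit_iff_isUnit_det]
      exact Matrix.linearIndependent_cols_iff_isUnit.1 (hli mm)
    refine hmat.ne_zero ?_
    rw [Module.Basis.det_apply] at hmem
    rw [show (Matrix.of fun i k : Fin r => φ mm (v k) i) =
      ((Module.finBasis A M).toMatrix v).map (Ideal.Quotient.mk m) from rfl,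
      ← RingHom.mapMatrix_apply, ← RingHom.map_det, Ideal.Quotient.eq_zero_iff_mem]
    exact hmem
  obtain ⟨h1, h2⟩ := (Module.Basis.is_basis_iff_det (Module.finBasis A M)).2 hdet
  exact ⟨Module.Basis.mk h1 h2.ge, fun i => by rw [Module.Basis.mk_apply]; exact hv i⟩

end Groth.Agent.SemilocBasis
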